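import Cfsg.Agent.Lib.ThreeTransp.Sakuma.Orbit

/-!
Consequences of the fusion rules for the axes at distance one.
-/

set_option autoImplicit false
set_option linter.unusedSimpArgs false

namespace CfsgLib.ThreeTransp.Sakuma

open Cfsg.Axial CfsgLib.ThreeTransp.Majorana

variable {V : Type*} [AddCommGroup V] [Module ℝ V]
variable {mul : V →ₗ[ℝ] V →ₗ[ℝ] V} {B : LinearMap.BilinForm ℝ V}

namespace Orbit

variable (o : Orbit mul B)

theorem shift_a (c k : ℤ) : (o.shift c).a k = o.a (c + k) := rfl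

theorem shift_s (c i d : ℤ) : (o.shift c).s i d = o.s (c + i) d := by
  simp only [s, shift_a, add_assoc]

theorem inner_succ (i : ℤ) : B (o.a i) (o.a (i + 1)) = B (o.a 0) (o.a 1) := by
  have step : ∀ i, B (o.a i) (o.a (i + 1)) = B (o.a (-i - 1)) (o.a (-i)) := fun i => by
    rw [← o.inner_refl 0 i (i + 1), o.symm]; ring_nf
  have step' : ∀ i, B (o.a i) (o.a (i + 1)) = B (o.a (1 - i)) (o.a (2 - i)) := fun i => by
    rw [← o.inner_refl 1 i (i + 1), o.symm]; ring_nf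
  have key : ∀ k : ℕ, B (o.a k) (o.a (k + 1)) = B (o.a 0) (o.a 1) ∧
      B (o.a (-k)) (o.a (-k + 1)) = B (o.a 0) (o.a 1) := by
    intro k
    induction k with
    | zero => simp
    | succ k ih =>
      refine ⟨?_, ?_⟩
      · rw [← ih.2, step' ((k + 1 : ℕ) : ℤ)]
        push_cast; ring_nf
      · rw [← ih.1, step (k : ℤ)]
        push_cast; ring_nf
  rcases Int.eq_nat_or_neg i with ⟨k, rfl | rfl⟩
  exacts [(key k).1, (key k).2]

theorem s_sub (i d : ℤ) : o.s (i - d) d = o.s i d := by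
  have h := ((o.shift i).basic d).2.2.1
  rwa [shift_s, shift_s, ← sub_eq_add_neg, add_zero] at h

theorem s_one (i : ℤ) : o.s i 1 = o.s 0 1 := by
  induction i using Int.induction_on with
  | zero => rfl
  | succ k ih => rw [← ih, ← o.s_sub (k + 1 : ℤ) 1, add_sub_cancel_right]
  | pred k ih => rw [← ih, o.s_sub]

theorem prod_eq (i j d : ℤ) (h : j = i + d) :
    mul (o.a i) (o.a j) = o.s i d + (1 / 32 : ℝ) • (o.a i + o.a j) := by
  subst h; rw [s]; module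

theorem prod_eq' (i j d : ℤ) (h : j = i + d) :
    mul (o.a j) (o.a i) = o.s i d + (1 / 32 : ℝ) • (o.a i + o.a j) := by
  rw [o.comm, o.prod_eq i j d h]

theorem prod_one (i j : ℤ) (h : j = i + 1 ∨ i = j + 1) :
    mul (o.a i) (o.a j) = o.s 0 1 + (1 / 32 : ℝ) • (o.a i + o.a j) := by
  rcases h with h | h
  · rw [o.prod_eq i j 1 h, o.s_one]
  · rw [o.prod_eq' j i 1 h, o.s_one, add_comm (o.a j)]

theorem prod_s (i d j j' : ℤ) (hj : j = i + d) (hj' : j' = i - d) :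
    mul (o.a i) (o.s i d) = ((31 * B (o.a i) (o.a j) - 1) / 32) • o.a i +
      (7 / 128 : ℝ) • ((1 / 8 : ℝ) • ((32 : ℝ) • o.s i d + (1 / 2 : ℝ) • (o.a j + o.a j') -
        (32 * B (o.a i) (o.a j) - 1) • o.a i)) := by
  subst hj hj'
  have h := ((o.shift i).basic d).2.2.2.1
  simp only [qv, shift_a, shift_s, add_zero, ← sub_eq_add_neg] at h
  exact h

theorem prod_s_one (i j j' : ℤ) (hj : j = i + 1) (hj' : j' = i - 1) :
    mul (o.a i) (o.s 0 1) = ((31 * B (o.a 0) (o.a 1) - 1) / 32) • o.a i +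
      (7 / 128 : ℝ) • ((1 / 8 : ℝ) • ((32 : ℝ) • o.s 0 1 + (1 / 2 : ℝ) • (o.a j + o.a j') -
        (32 * B (o.a 0) (o.a 1) - 1) • o.a i)) := by
  have h := o.prod_s i 1 j j' hj hj'
  rwa [o.s_one, hj, o.inner_succ, ← hj] at h

theorem prod_s_zero_two :
    mul (o.a 0) (o.s 0 2) = ((31 * B (o.a 0) (o.a 2) - 1) / 32) • o.a 0 +
      (7 / 128 : ℝ) • ((1 / 8 : ℝ) • ((32 : ℝ) • o.s 0 2 + (1 / 2 : ℝ) • (o.a 2 + o.a (-2)) -
        (32 * B (o.a 0) (o.a 2) - 1) • o.a 0)) :=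
  o.prod_s 0 2 2 (-2) (by norm_num) (by norm_num)

/-- An axis times the product of its two neighbours. -/
theorem prod_s_two :
    mul (o.a 0) (o.s 1 2) =
      (32 / 3 * B (o.a 0) (o.a 1) - 19 / 48) • o.s 0 1 +
      (-(32 / 3) * (B (o.a 0) (o.a 1) * B (o.a 0) (o.a 1)) + 5 / 3 * B (o.a 0) (o.a 1) -
        1 / 24 * B (o.a 1) (o.a (-1)) - 127 / 3072) • o.a 0 +
      (1 / 6 * B (o.a 0) (o.a 1) - 19 / 3072) • (o.a 1 + o.a (-1)) +
      (7 / 96 : ℝ) • o.s 0 2 + (7 / 6144 : ℝ) • (o.a 2 + o.a (-2)) := by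
  obtain ⟨hz, hq, -, -, hb⟩ := o.basic 1
  have h : mul (o.a 0) (mul (o.zv 1) (o.zv 1) - mul (o.qv 1) (o.qv 1)) =
      -((B (o.qv 1) (o.qv 1) / 4) • o.a 0) := by
    rw [map_sub, o.fus_zero_zero hz hz, o.fus_quarter_quarter hq hq, zero_sub]
  rw [hb] at h
  have hs : o.s (-1) 2 = o.s 1 2 := o.s_sub 1 2
  have hs' : o.s (-2) 2 = o.s 0 2 := o.s_sub 0 2
  simp only [zv, qv, map_add, map_sub, map_smul, LinearMap.add_apply, LinearMap.sub_apply,
    LinearMap.smul_apply, o.idem, o.prod_one 0 1 (by norm_num), o.prod_one 1 0 (by norm_num),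
    o.prod_one 0 (-1) (by norm_num), o.prod_one (-1) 0 (by norm_num),
    o.prod_eq' (-1) 1 2 (by norm_num), o.prod_eq (-1) 1 2 (by norm_num),
    o.comm (o.s 0 1) (o.a 0), o.comm (o.s 0 1) (o.a 1), o.comm (o.s 0 1) (o.a (-1)),
    o.prod_s_one 0 1 (-1) (by norm_num) (by norm_num), o.prod_s_one 1 2 0 (by norm_num) (by norm_num),
    o.prod_s_one (-1) 0 (-2) (by norm_num) (by norm_num),
    o.prod_eq 0 2 2 (by norm_num), o.prod_eq' (-2) 0 2 (by norm_num), hs, hs'] at h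
  linear_combination (norm := module) (8 / 3 : ℝ) • h

/-- The square of the vector common to all pairs of neighbours. -/
theorem s_sq :
    mul (o.s 0 1) (o.s 0 1) =
      (-(5 / 12) * B (o.a 0) (o.a 1) - 13 / 1536) • o.s 0 1 +
      (7 / 6 * (B (o.a 0) (o.a 1) * B (o.a 0) (o.a 1)) - 7 / 384 * B (o.a 0) (o.a 1) +
        7 / 1536 * B (o.a 1) (o.a (-1)) - 7 / 98304) • o.a 0 +
      (49 / 768 * B (o.a 0) (o.a 1) - 245 / 196608) • (o.a 1 + o.a (-1)) +
      (-(7 / 1536) : ℝ) • o.s 0 2 + (49 / 196608 : ℝ) • (o.a 2 + o.a (-2)) +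
      (7 / 2048 : ℝ) • o.s 1 2 := by
  obtain ⟨hz, hq, -, -, -⟩ := o.basic 1
  have h : mul (o.a 0) (mul (o.zv 1) (o.zv 1) + mul (o.zv 1) (o.qv 1)) =
      (1 / 4 : ℝ) • mul (o.zv 1) (o.qv 1) := by
    rw [map_add, o.fus_zero_zero hz hz, o.fus_zero_quarter hz hq, zero_add]
  have hs : o.s (-1) 2 = o.s 1 2 := o.s_sub 1 2
  have hs' : o.s (-2) 2 = o.s 0 2 := o.s_sub 0 2
  simp only [zv, qv, map_add, map_sub, map_smul, LinearMap.add_apply, LinearMap.sub_apply,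
    LinearMap.smul_apply, o.idem, o.prod_one 0 1 (by norm_num), o.prod_one 1 0 (by norm_num),
    o.prod_one 0 (-1) (by norm_num), o.prod_one (-1) 0 (by norm_num),
    o.prod_eq' (-1) 1 2 (by norm_num), o.prod_eq (-1) 1 2 (by norm_num),
    o.comm (o.s 0 1) (o.a 0), o.comm (o.s 0 1) (o.a 1), o.comm (o.s 0 1) (o.a (-1)),
    o.prod_s_one 0 1 (-1) (by norm_num) (by norm_num), o.prod_s_one 1 2 0 (by norm_num) (by norm_num),
    o.prod_s_one (-1) 0 (-2) (by norm_num) (by norm_num),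
    o.prod_eq 0 2 2 (by norm_num), o.prod_eq' (-2) 0 2 (by norm_num), hs, hs'] at h
  have hO := o.prod_s_two
  set X := mul (o.a 0) (o.s 1 2)
  set T := mul (o.a 0) (mul (o.s 0 1) (o.s 0 1))
  linear_combination (norm := module) (1 / 4 : ℝ) • h - (7 / 64 : ℝ) • hO

end Orbit

end CfsgLib.ThreeTransp.Sakuma
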