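import Cfsg.Agent.Lib.ThreeTransp.Sakuma.Three

/-!
Sakuma's theorem: the product of two Majorana involutions has order at most six.
-/

set_option autoImplicit false

namespace CfsgLib.ThreeTransp.Sakuma

open Cfsg.Axial CfsgLib.ThreeTransp.Majorana

variable {V : Type*} [AddCommGroup V] [Module ℝ V]
variable {mul : V →ₗ[ℝ] V →ₗ[ℝ] V} {B : LinearMap.BilinForm ℝ V}

/-- The nine possible pairs of inner products. -/
theorem nine {l m : ℝ}
    (h1 : 6291456 * l ^ 4 + 122880 * l ^ 2 * m - 6979584 * l ^ 3 + 26688 * l * m +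
      552960 * l ^ 2 + 384 * m ^ 2 - 14400 * l - 501 * m + 117 = 0)
    (h2 : 1610612736 * l ^ 5 + 78643200 * l ^ 3 * m - 1815085056 * l ^ 4 +
      282624 * l * m ^ 2 - 4780032 * l ^ 2 * m + 132415488 * l ^ 3 +
      497568 * l * m - 2580480 * l ^ 2 + 8352 * m ^ 2 - 6048 * l -
      8703 * m + 351 = 0) :
    l = 1 ∨ m = 1 ∨ (l = 13 / 256 ∧ m = 13 / 256) ∨ (l = 1 / 64 ∧ m = 1 / 64) ∨
      (l = 1 / 32 ∧ m = 0) ∨ (l = 1 / 64 ∧ m = 1 / 8) ∨ (l = 3 / 128 ∧ m = 3 / 128) ∨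
      (l = 5 / 256 ∧ m = 13 / 256) := by
  set p : ℝ := 4529848320 * l ^ 3 + 10404495360 * l ^ 2 - 109762560 * l - 842400 with hp
  set q : ℝ := 1159641169920 * l ^ 5 - 1223059046400 * l ^ 4 + 47138734080 * l ^ 3 +
    1539440640 * l ^ 2 - 84879360 * l + 842400 with hq
  have hL : p * m + q = 0 := by
    rw [hp, hq]; linear_combination (282624 * l + 8352) * h1 - 384 * h2
  have hR : (l - 1) * (8 * l - 1) * l * (256 * l - 13) * (64 * l - 1) * (64 * l - 1) * (32 * l - 1) *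
      (128 * l - 3) * (256 * l - 5) * (-179789679820800 : ℝ) = 0 := by
    rw [hp, hq] at hL
    linear_combination p ^ 2 * h1 -
      (384 * p * m - 384 * q + (122880 * l ^ 2 + 26688 * l - 501) * p) * hL
  simp only [mul_eq_zero, sub_eq_zero] at hR
  rcases hR with ((((((((h | h) | h) | h) | h) | h) | h) | h) | h) | h
  · exact Or.inl h
  · obtain rfl : l = 1 / 8 := by linarith
    norm_num [hp, hq] at hL
    exact Or.inr (Or.inl (by linarith))
  · subst h
    norm_num [hp, hq] at hL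
    exact Or.inr (Or.inl (by linarith))
  · obtain rfl : l = 13 / 256 := by linarith
    norm_num [hp, hq] at hL
    exact Or.inr (Or.inr (Or.inl ⟨rfl, by linarith⟩))
  · obtain rfl : l = 1 / 64 := by linarith
    have : (m - 1 / 64) * (m - 1 / 8) = 0 := by linear_combination (1 / 384 : ℝ) * h1
    rcases mul_eq_zero.1 this with e | e
    · exact Or.inr (Or.inr (Or.inr (Or.inl ⟨rfl, by linarith⟩)))
    · exact Or.inr (Or.inr (Or.inr (Or.inr (Or.inr (Or.inl ⟨rfl, by linarith⟩)))))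
  · obtain rfl : l = 1 / 64 := by linarith
    have : (m - 1 / 64) * (m - 1 / 8) = 0 := by linear_combination (1 / 384 : ℝ) * h1
    rcases mul_eq_zero.1 this with e | e
    · exact Or.inr (Or.inr (Or.inr (Or.inl ⟨rfl, by linarith⟩)))
    · exact Or.inr (Or.inr (Or.inr (Or.inr (Or.inr (Or.inl ⟨rfl, by linarith⟩)))))
  · obtain rfl : l = 1 / 32 := by linarith
    norm_num [hp, hq] at hL
    exact Or.inr (Or.inr (Or.inr (Or.inr (Or.inl ⟨rfl, by linarith⟩))))
  · obtain rfl : l = 3 / 128 := by linarith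
    norm_num [hp, hq] at hL
    exact Or.inr (Or.inr (Or.inr (Or.inr (Or.inr (Or.inr (Or.inl ⟨rfl, by linarith⟩))))))
  · obtain rfl : l = 5 / 256 := by linarith
    norm_num [hp, hq] at hL
    exact Or.inr (Or.inr (Or.inr (Or.inr (Or.inr (Or.inr (Or.inr ⟨rfl, by linarith⟩))))))
  · norm_num at h

namespace Orbit

variable (o : Orbit mul B)

/-- the axes repeat after at most six steps -/
theorem exists_period : ∃ n : ℕ, 1 ≤ n ∧ n ≤ 6 ∧ o.a n = o.a 0 := by
  suffices ∃ n : ℕ, 1 ≤ n ∧ n ≤ 6 ∧ B (o.a 0) (o.a n) = 1 by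
    obtain ⟨n, h1, h2, h3⟩ := this
    exact ⟨n, h1, h2, (eq_of_inner_eq_one o.amb (o.unit _) (o.unit _) h3).symm⟩
  have e3 := o.inner_three 0
  have e4 := o.inner_four' 0
  have e5 := o.inner_five' 0
  have e6 := o.inner_six
  rw [zero_add] at e3 e4 e5
  rcases nine o.eq_one o.eq_two with h | h | ⟨h, h'⟩ | ⟨h, h'⟩ | ⟨h, h'⟩ | ⟨h, h'⟩ | ⟨h, h'⟩ | ⟨h, h'⟩
  · exact ⟨1, le_rfl, by norm_num, by exact_mod_cast h⟩
  · exact ⟨2, by norm_num, by norm_num, by exact_mod_cast h⟩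
  · exact ⟨3, by norm_num, by norm_num, by norm_num; rw [e3, h, h']; norm_num [th]⟩
  · exact ⟨3, by norm_num, by norm_num, by norm_num; rw [e3, h, h']; norm_num [th]⟩
  · exact ⟨4, by norm_num, by norm_num, by norm_num; rw [e4, h, h']; norm_num [fo, th, c0, c1]⟩
  · exact ⟨4, by norm_num, by norm_num, by norm_num; rw [e4, h, h']; norm_num [fo, th, c0, c1]⟩
  · exact ⟨5, by norm_num, by norm_num, by norm_num; rw [e5, h, h']; norm_num [fi, fo, th, c0, c1]⟩
  · exact ⟨6, by norm_num, le_rfl, by norm_num; rw [e6, h, h']; norm_num [si, fi, fo, th, c0, c1]⟩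

end Orbit

/-- Sakuma's theorem. -/
theorem six_transposition (hV : IsMajoranaAmbient mul B) (μ₀ μ₁ : V ≃ₗ[ℝ] V) (a₀ a₁ : V)
    (h₀ : IsMajoranaPair mul B μ₀ a₀) (h₁ : IsMajoranaPair mul B μ₁ a₁)
    (hn₀ : B a₀ a₀ = 1) (hn₁ : B a₁ a₁ = 1) : ∃ n : ℕ, 1 ≤ n ∧ n ≤ 6 ∧ (μ₀ * μ₁) ^ n = 1 := by
  have s0 := mul_self_eq_one h₀
  have s1 := mul_self_eq_one h₁
  set ρ := μ₁ * μ₀ with hρ
  have hflip0 : ∀ k : ℤ, μ₀ * ρ ^ k = ρ ^ (-k) * μ₀ := by
    intro k
    have : μ₀ * ρ * μ₀⁻¹ = ρ⁻¹ := by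
      rw [hρ, _root_.mul_inv_rev, inv_eq_of_mul_eq_one_right s0, inv_eq_of_mul_eq_one_right s1,
        mul_assoc, mul_assoc, s0, mul_one]
    rw [← mul_inv_eq_iff_eq_mul, ← conj_zpow, this, inv_zpow']
  have hflip1 : ∀ k : ℤ, μ₁ * ρ ^ k = ρ ^ (-k) * μ₁ := by
    intro k
    have : μ₁ = ρ * μ₀ := by rw [hρ, mul_assoc, s0, mul_one]
    rw [this, mul_assoc, hflip0, ← mul_assoc, ← mul_assoc]
    congr 1
    group
  have hm0 : ∀ k : ℤ, ∀ u v : V, (ρ ^ k) (mul u v) = mul ((ρ ^ k) u) ((ρ ^ k) v) := by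
    intro k
    induction k using Int.induction_on with
    | zero => intros; rfl
    | succ k ih =>
      intro u v
      rw [zpow_add_one]
      show (ρ ^ (k : ℤ)) (μ₁ (μ₀ (mul u v))) = _
      rw [h₀.1, h₁.1, ih]; rfl
    | pred k ih =>
      intro u v
      rw [zpow_sub_one, hρ, _root_.mul_inv_rev, inv_eq_of_mul_eq_one_right s0,
        inv_eq_of_mul_eq_one_right s1, ← hρ]
      show (ρ ^ (-k : ℤ)) (μ₀ (μ₁ (mul u v))) = _
      rw [h₁.1, h₀.1, ih]; rfl
  have hB0 : ∀ k : ℤ, ∀ u v : V, B ((ρ ^ k) u) ((ρ ^ k) v) = B u v := by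
    intro k
    induction k using Int.induction_on with
    | zero => intros; rfl
    | succ k ih =>
      intro u v
      rw [zpow_add_one]
      show B ((ρ ^ (k : ℤ)) (μ₁ (μ₀ u))) ((ρ ^ (k : ℤ)) (μ₁ (μ₀ v))) = _
      rw [ih, h₁.2.1, h₀.2.1]
    | pred k ih =>
      intro u v
      rw [zpow_sub_one, hρ, _root_.mul_inv_rev, inv_eq_of_mul_eq_one_right s0,
        inv_eq_of_mul_eq_one_right s1, ← hρ]
      show B ((ρ ^ (-k : ℤ)) (μ₀ (μ₁ u))) ((ρ ^ (-k : ℤ)) (μ₀ (μ₁ v))) = _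
      rw [ih, h₀.2.1, h₁.2.1]
  have f0 : μ₀ a₀ = a₀ := by
    refine h₀.2.2.2.1 a₀ (le_iSup₂_of_le (f := fun c _ => eigen mul a₀ c) 1 (by simp) le_rfl ?_)
    rw [mem_eigen, one_smul]; exact h₀.2.2.1.1.2.1
  have f1 : μ₁ a₁ = a₁ := by
    refine h₁.2.2.2.1 a₁ (le_iSup₂_of_le (f := fun c _ => eigen mul a₁ c) 1 (by simp) le_rfl ?_)
    rw [mem_eigen, one_smul]; exact h₁.2.2.1.1.2.1
  have f01 : μ₀ a₁ = (ρ⁻¹) a₁ := by
    rw [hρ, _root_.mul_inv_rev, inv_eq_of_mul_eq_one_right s0, inv_eq_of_mul_eq_one_right s1]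
    show _ = μ₀ (μ₁ a₁)
    rw [f1]
  have f10 : μ₁ a₀ = ρ a₀ := by
    show _ = μ₁ (μ₀ a₀)
    rw [f0]
  let a : ℤ → V := fun j => (ρ ^ (j / 2)) (if j % 2 = 0 then a₀ else a₁)
  let μ : ℤ → (V ≃ₗ[ℝ] V) := fun j => ρ ^ (j / 2) * (if j % 2 = 0 then μ₀ else μ₁) * (ρ ^ (j / 2))⁻¹
  have hrefl : ∀ i j, μ i (a j) = a (2 * i - j) := by
    intro i j
    simp only [a, μ]
    obtain ⟨p, rfl | rfl⟩ := Int.even_or_odd' i <;> obtain ⟨r, rfl | rfl⟩ := Int.even_or_odd' j
    · have e1 : (2 * p) / 2 = p := by omega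
      have e2 : (2 * r) / 2 = r := by omega
      have e3 : (2 * (2 * p) - 2 * r) / 2 = 2 * p - r := by omega
      have m1 : (2 * p) % 2 = 0 := by omega
      have m2 : (2 * r) % 2 = 0 := by omega
      have m3 : (2 * (2 * p) - 2 * r) % 2 = 0 := by omega
      rw [e1, e2, e3, if_pos m1, if_pos m2, if_pos m3, ← LinearEquiv.mul_apply, ← zpow_neg, mul_assoc,
        mul_assoc, ← zpow_add, hflip0, ← mul_assoc, ← zpow_add, LinearEquiv.mul_apply, f0]
      ring_nf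
    · have e1 : (2 * p) / 2 = p := by omega
      have e2 : (2 * r + 1) / 2 = r := by omega
      have e3 : (2 * (2 * p) - (2 * r + 1)) / 2 = 2 * p - r - 1 := by omega
      have m1 : (2 * p) % 2 = 0 := by omega
      have m2 : ¬ (2 * r + 1) % 2 = 0 := by omega
      have m3 : ¬ (2 * (2 * p) - (2 * r + 1)) % 2 = 0 := by omega
      rw [e1, e2, e3, if_pos m1, if_neg m2, if_neg m3, ← LinearEquiv.mul_apply, ← zpow_neg, mul_assoc,
        mul_assoc, ← zpow_add, hflip0, ← mul_assoc, ← zpow_add, LinearEquiv.mul_apply, f01,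
        ← LinearEquiv.mul_apply, ← zpow_sub_one]
      ring_nf
    · have e1 : (2 * p + 1) / 2 = p := by omega
      have e2 : (2 * r) / 2 = r := by omega
      have e3 : (2 * (2 * p + 1) - 2 * r) / 2 = 2 * p + 1 - r := by omega
      have m1 : ¬ (2 * p + 1) % 2 = 0 := by omega
      have m2 : (2 * r) % 2 = 0 := by omega
      have m3 : (2 * (2 * p + 1) - 2 * r) % 2 = 0 := by omega
      rw [e1, e2, e3, if_neg m1, if_pos m2, if_pos m3, ← LinearEquiv.mul_apply, ← zpow_neg, mul_assoc,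
        mul_assoc, ← zpow_add, hflip1, ← mul_assoc, ← zpow_add, LinearEquiv.mul_apply, f10,
        ← LinearEquiv.mul_apply, ← zpow_add_one]
      ring_nf
    · have e1 : (2 * p + 1) / 2 = p := by omega
      have e2 : (2 * r + 1) / 2 = r := by omega
      have e3 : (2 * (2 * p + 1) - (2 * r + 1)) / 2 = 2 * p - r := by omega
      have m1 : ¬ (2 * p + 1) % 2 = 0 := by omega
      have m2 : ¬ (2 * r + 1) % 2 = 0 := by omega
      have m3 : ¬ (2 * (2 * p + 1) - (2 * r + 1)) % 2 = 0 := by omega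
      rw [e1, e2, e3, if_neg m1, if_neg m2, if_neg m3, ← LinearEquiv.mul_apply, ← zpow_neg, mul_assoc,
        mul_assoc, ← zpow_add, hflip1, ← mul_assoc, ← zpow_add, LinearEquiv.mul_apply, f1]
      ring_nf
  let o : Orbit mul B :=
    { amb := hV
      a := a
      μ := μ
      pair := fun i => by
        simp only [a, μ]
        split_ifs
        exacts [pair_conj h₀ _ (hm0 _) (hB0 _), pair_conj h₁ _ (hm0 _) (hB0 _)]
      unit := fun i => by
        simp only [a]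
        rw [hB0]
        split_ifs <;> assumption
      refl := hrefl }
  obtain ⟨n, hn1, hn6, hn⟩ := o.exists_period
  refine ⟨n, hn1, hn6, ?_⟩
  -- the involution of an axis is determined by it
  have heq : μ n = μ₀ := by
    have h := o.pair n
    rw [hn, show o.a 0 = a₀ from rfl] at h
    refine LinearEquiv.ext fun b => ?_
    obtain ⟨r, u, v, w, hu, hv, hw, e, e'⟩ := exists_parts h₀ b
    obtain ⟨-, -, -, hfix, hneg⟩ := h
    have hfix' : ∀ {c : ℝ} {x : V}, c ∈ ({1, 0, 1 / 4} : Set ℝ) → mul a₀ x = c • x → μ n x = x :=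
      fun {c x} hc hx => hfix x (le_iSup₂_of_le (f := fun c _ => eigen mul a₀ c) c hc le_rfl
        (mem_eigen.2 hx))
    have h1 : μ n u = u := hfix' (c := 0) (by simp) (by rw [hu, zero_smul])
    have h2 : μ n v = v := hfix' (c := 1 / 4) (by simp) hv
    have h3 : μ n w = -w := hneg w (mem_eigen.2 hw)
    have h4 : μ n a₀ = a₀ :=
      hfix' (c := 1) (by simp) (by rw [one_smul]; exact h₀.2.2.1.1.2.1)
    rw [e', e, map_add, map_add, map_add, map_smul, h1, h2, h3, h4]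
    abel
  have hinv : ρ ^ (n : ℤ) = 1 := by
    obtain ⟨p, hp | hp⟩ := Int.even_or_odd' (n : ℤ)
    · rw [show μ n = ρ ^ p * μ₀ * (ρ ^ p)⁻¹ by
        simp only [μ]; rw [hp, show 2 * p / 2 = p by omega, if_pos (by omega)], ← zpow_neg, mul_assoc,
        hflip0, neg_neg, ← mul_assoc, ← zpow_add, mul_eq_right] at heq
      rw [hp, two_mul]; exact heq
    · rw [show μ n = ρ ^ p * μ₁ * (ρ ^ p)⁻¹ by
        simp only [μ]; rw [hp, show (2 * p + 1) / 2 = p by omega, if_neg (by omega)], ← zpow_neg,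
        mul_assoc, hflip1, neg_neg, show μ₁ = ρ * μ₀ by rw [hρ, mul_assoc, s0, mul_one], ← mul_assoc,
        ← mul_assoc, ← zpow_add, ← zpow_add_one, mul_eq_right] at heq
      rw [hp, two_mul]; exact heq
  have e : μ₀ * μ₁ = ρ⁻¹ := by
    rw [hρ, _root_.mul_inv_rev, inv_eq_of_mul_eq_one_right s0, inv_eq_of_mul_eq_one_right s1]
  rw [e, inv_pow, ← zpow_natCast, hinv, inv_one]

end CfsgLib.ThreeTransp.Sakuma
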