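import Cfsg.Agent.Lib.ThreeTransp.MajoranaPairs

/-!
The axes of the dihedral group generated by two Majorana involutions, and the products of an axis with
another one of them.
-/

set_option autoImplicit false

namespace CfsgLib.ThreeTransp.Sakuma

open Cfsg.Axial CfsgLib.ThreeTransp.Majorana

variable {V : Type*} [AddCommGroup V] [Module ℝ V]
variable {mul : V →ₗ[ℝ] V →ₗ[ℝ] V} {B : LinearMap.BilinForm ℝ V}

/-- An axis with respect to a Majorana involution splits any vector in four parts. -/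
theorem exists_parts {μ : V ≃ₗ[ℝ] V} {a : V} (h : IsMajoranaPair mul B μ a) (b : V) :
    ∃ (r : ℝ) (u v w : V), mul a u = 0 ∧ mul a v = (1 / 4 : ℝ) • v ∧ mul a w = (1 / 32 : ℝ) • w ∧
      b = r • a + u + v + w ∧ μ b = r • a + u + v - w := by
  obtain ⟨-, -, ⟨⟨-, -, hsum, -⟩, hprim⟩, hfix, hneg⟩ := h
  have hb : b ∈ eigenSum mul a majoranaSpectrum := hsum ▸ Submodule.mem_top
  rw [eigenSum, majoranaSpectrum, iSup_insert, iSup_insert, iSup_insert, iSup_singleton] at hb
  obtain ⟨p, hp, _, hr, rfl⟩ := Submodule.mem_sup.1 hb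
  obtain ⟨u, hu, _, hr', rfl⟩ := Submodule.mem_sup.1 hr
  obtain ⟨v, hv, w, hw, rfl⟩ := Submodule.mem_sup.1 hr'
  have hp' := hp
  rw [hprim, Submodule.mem_span_singleton] at hp'
  obtain ⟨r, rfl⟩ := hp'
  have hfix' : ∀ {c : ℝ} {x : V}, c ∈ ({1, 0, 1 / 4} : Set ℝ) → x ∈ eigen mul a c → μ x = x :=
    fun {c x} hc hx => hfix x (le_iSup₂_of_le (f := fun c _ => eigen mul a c) c hc le_rfl hx)
  refine ⟨r, u, v, w, ?_, mem_eigen.1 hv, mem_eigen.1 hw, by abel, ?_⟩
  · rw [mem_eigen.1 hu, zero_smul]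
  have e : μ w = -w := hneg w hw
  rw [map_add, map_add, map_add, hfix' (by simp) hp, hfix' (by simp) hu, hfix' (by simp) hv, e]
  abel

/-- Majorana involutions square to the identity. -/
theorem mul_self_eq_one {μ : V ≃ₗ[ℝ] V} {a : V} (h : IsMajoranaPair mul B μ a) : μ * μ = 1 := by
  refine LinearEquiv.ext fun b => ?_
  obtain ⟨r, u, v, w, hu, hv, hw, e, e'⟩ := exists_parts h b
  show μ (μ b) = b
  obtain ⟨-, -, -, hfix, hneg⟩ := h
  have hfix' : ∀ {c : ℝ} {x : V}, c ∈ ({1, 0, 1 / 4} : Set ℝ) → mul a x = c • x → μ x = x :=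
    fun {c x} hc hx => hfix x (le_iSup₂_of_le (f := fun c _ => eigen mul a c) c hc le_rfl (mem_eigen.2 hx))
  have h1 : μ u = u := hfix' (c := 0) (by simp) (by rw [hu, zero_smul])
  have h2 : μ v = v := hfix' (c := 1 / 4) (by simp) hv
  have h3 : μ w = -w := hneg w (mem_eigen.2 hw)
  have h4 : μ b = b - (2 : ℝ) • w := by rw [e', e]; module
  rw [h4, map_sub, map_smul, h4, h3]
  module

/-- Two axes of squared length one with inner product one coincide. -/
theorem eq_of_inner_eq_one (hV : IsMajoranaAmbient mul B) {x y : V} (hx : B x x = 1) (hy : B y y = 1)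
    (hxy : B x y = 1) : x = y := by
  obtain ⟨-, hsymm, hpos, -, -⟩ := hV
  by_contra h
  have := hpos (x - y) (sub_ne_zero.2 h)
  simp only [map_sub, LinearMap.sub_apply, hx, hy, hxy, hsymm y x] at this
  norm_num at this

variable (mul B) in
/-- The axes of a dihedral group of Majorana involutions, indexed by the integers. -/
structure Orbit where
  amb : IsMajoranaAmbient mul B
  a : ℤ → V
  μ : ℤ → (V ≃ₗ[ℝ] V)
  pair : ∀ i, IsMajoranaPair mul B (μ i) (a i)
  unit : ∀ i, B (a i) (a i) = 1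
  refl : ∀ i j, μ i (a j) = a (2 * i - j)

namespace Orbit

variable (o : Orbit mul B)

/-- The same axes counted from another one. -/
def shift (c : ℤ) : Orbit mul B where
  amb := o.amb
  a k := o.a (c + k)
  μ k := o.μ (c + k)
  pair _ := o.pair _
  unit _ := o.unit _
  refl i j := by rw [o.refl]; ring_nf

include o in
theorem comm (x y : V) : mul x y = mul y x := o.amb.1 x y

include o in
theorem symm (x y : V) : B x y = B y x := o.amb.2.1 x y

include o in
theorem assoc (x y z : V) : B x (mul y z) = B (mul x y) z := o.amb.2.2.2.1 x y z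

theorem idem (i : ℤ) : mul (o.a i) (o.a i) = o.a i := (o.pair i).2.2.1.1.2.1

theorem inner_refl (c i j : ℤ) : B (o.a (2 * c - i)) (o.a (2 * c - j)) = B (o.a i) (o.a j) := by
  rw [← o.refl, ← o.refl, (o.pair c).2.1]

/-- `s i d = a i * a (i + d) - (a i + a (i + d)) / 32`. -/
noncomputable def s (i d : ℤ) : V :=
  mul (o.a i) (o.a (i + d)) - (1 / 32 : ℝ) • (o.a i + o.a (i + d))

/-- the part of the other axis in the quarter eigenspace -/
noncomputable def qv (d : ℤ) : V :=
  (1 / 8 : ℝ) • ((32 : ℝ) • o.s 0 d + (1 / 2 : ℝ) • (o.a d + o.a (-d)) -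
    (32 * B (o.a 0) (o.a d) - 1) • o.a 0)

/-- the part of the other axis in the null eigenspace -/
noncomputable def zv (d : ℤ) : V :=
  (1 / 2 : ℝ) • (o.a d + o.a (-d)) - B (o.a 0) (o.a d) • o.a 0 - o.qv d

theorem orth {i : ℤ} {c e : ℝ} (hce : c ≠ e) {x y : V} (hx : mul (o.a i) x = c • x)
    (hy : mul (o.a i) y = e • y) : B x y = 0 := by
  have h := o.assoc x (o.a i) y
  rw [hy, o.comm x, hx, map_smul, map_smul, LinearMap.smul_apply, smul_eq_mul, smul_eq_mul] at h
  have : (e - c) * B x y = 0 := by linarith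
  exact (mul_eq_zero.1 this).resolve_left (sub_ne_zero.2 (Ne.symm hce))

theorem basic (d : ℤ) :
    mul (o.a 0) (o.zv d) = 0 ∧ mul (o.a 0) (o.qv d) = (1 / 4 : ℝ) • o.qv d ∧
    o.s (-d) d = o.s 0 d ∧
    mul (o.a 0) (o.s 0 d) = ((31 * B (o.a 0) (o.a d) - 1) / 32) • o.a 0 + (7 / 128 : ℝ) • o.qv d ∧
    B (o.qv d) (o.qv d) = 4 * (B (o.a 0) (o.a d) - B (o.a 0) (o.a d) * B (o.a 0) (o.a d) -
      (1 - B (o.a d) (o.a (-d))) / 64) := by
  obtain ⟨r, u, v, w, hu, hv, hw, e, e'⟩ := exists_parts (o.pair 0) (o.a d)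
  rw [o.refl, mul_zero, zero_sub] at e'
  have ha : mul (o.a 0) (o.a 0) = (1 : ℝ) • o.a 0 := by rw [o.idem, one_smul]
  have hu' : mul (o.a 0) u = (0 : ℝ) • u := by rw [hu, zero_smul]
  have oau : B (o.a 0) u = 0 := o.orth one_ne_zero ha hu'
  have oav : B (o.a 0) v = 0 := o.orth (by norm_num) ha hv
  have oaw : B (o.a 0) w = 0 := o.orth (by norm_num) ha hw
  have ouv : B u v = 0 := o.orth (by norm_num) hu' hv
  have ouw : B u w = 0 := o.orth (by norm_num) hu' hw
  have ovw : B v w = 0 := o.orth (by norm_num) hv hw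
  have hr : B (o.a 0) (o.a d) = r := by
    rw [e]; simp [o.unit, oau, oav, oaw]
  have hab : mul (o.a 0) (o.a d) = r • o.a 0 + (1 / 4 : ℝ) • v + (1 / 32 : ℝ) • w := by
    conv_lhs => rw [e]
    simp [map_add, map_smul, o.idem, hu, hv, hw]
  have hab' : mul (o.a 0) (o.a (-d)) = r • o.a 0 + (1 / 4 : ℝ) • v - (1 / 32 : ℝ) • w := by
    conv_lhs => rw [e']
    simp [map_add, map_sub, map_smul, o.idem, hu, hv, hw]
  have hs : o.s 0 d = ((31 * r - 1) / 32) • o.a 0 + (7 / 32 : ℝ) • v - (1 / 32 : ℝ) • u := by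
    rw [s, zero_add, hab, e]; module
  have hs' : o.s (-d) d = o.s 0 d := by
    rw [hs, s, neg_add_cancel, o.comm, hab', e']; module
  have hqv : o.qv d = v := by
    rw [qv, hr, hs, e, e']; module
  have hzv : o.zv d = u := by
    rw [zv, hqv, hr, e, e']; module
  refine ⟨by rw [hzv, hu], by rw [hqv, hv], hs', ?_, ?_⟩
  · rw [hqv, hr, hs, map_sub, map_add, map_smul, map_smul, map_smul, o.idem, hu, hv]
    module
  · have h1 := o.unit d
    have h2 : B (o.a d) (o.a (-d)) = r * r + B u u + B v v - B w w := by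
      rw [e, e']
      simp [o.unit, oau, oav, oaw, ouv, ouw, ovw, o.symm u (o.a 0), o.symm v (o.a 0), o.symm w (o.a 0),
        o.symm v u, o.symm w u, o.symm w v]
      ring
    rw [e] at h1
    simp [o.unit, oau, oav, oaw, ouv, ouw, ovw, o.symm u (o.a 0), o.symm v (o.a 0), o.symm w (o.a 0),
        o.symm v u, o.symm w u, o.symm w v] at h1
    have h3 : B (mul (o.a 0) (o.a d)) (o.a d) = r := by
      rw [← o.assoc, o.idem, hr]
    rw [hab, e] at h3
    simp [o.unit, oau, oav, oaw, ouv, ouw, ovw, o.symm u (o.a 0), o.symm v (o.a 0), o.symm w (o.a 0),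
        o.symm v u, o.symm w u, o.symm w v] at h3
    rw [hqv, hr, h2]
    linarith

theorem fus_zero_zero {x y : V} (hx : mul (o.a 0) x = 0) (hy : mul (o.a 0) y = 0) :
    mul (o.a 0) (mul x y) = 0 := by
  have h := (o.pair 0).2.2.1.1.2.2.2 0 (by simp [majoranaSpectrum]) 0 (by simp [majoranaSpectrum]) x
    (mem_eigen.2 (by rw [hx, zero_smul])) y (mem_eigen.2 (by rw [hy, zero_smul]))
  rwa [law_zero_zero, eigenSum_singleton, mem_eigen, zero_smul] at h

theorem fus_zero_quarter {x y : V} (hx : mul (o.a 0) x = 0) (hy : mul (o.a 0) y = (1 / 4 : ℝ) • y) :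
    mul (o.a 0) (mul x y) = (1 / 4 : ℝ) • mul x y := by
  have h := (o.pair 0).2.2.1.1.2.2.2 0 (by simp [majoranaSpectrum]) (1 / 4) (by simp [majoranaSpectrum]) x
    (mem_eigen.2 (by rw [hx, zero_smul])) y (mem_eigen.2 hy)
  rwa [law_zero_quarter, eigenSum_singleton, mem_eigen] at h

theorem fus_quarter_quarter {x y : V} (hx : mul (o.a 0) x = (1 / 4 : ℝ) • x)
    (hy : mul (o.a 0) y = (1 / 4 : ℝ) • y) : mul (o.a 0) (mul x y) = (B x y / 4) • o.a 0 := by
  have h := (o.pair 0).2.2.1.1.2.2.2 (1 / 4) (by simp [majoranaSpectrum]) (1 / 4) (by simp [majoranaSpectrum]) x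
    (mem_eigen.2 hx) y (mem_eigen.2 hy)
  rw [law_quarter_quarter, eigenSum_pair] at h
  obtain ⟨p, hp, z, hz, e⟩ := Submodule.mem_sup.1 h
  rw [(o.pair 0).2.2.1.2, Submodule.mem_span_singleton] at hp
  obtain ⟨b, rfl⟩ := hp
  rw [mem_eigen] at hz
  have hab : B (o.a 0) z = 0 := o.orth (i := 0) one_ne_zero (by rw [o.idem, one_smul]) hz
  have hb : B x y / 4 = b := by
    have h1 := o.assoc (o.a 0) x y
    rw [hx, ← e, map_add, map_smul, o.unit, hab, map_smul, LinearMap.smul_apply] at h1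
    simp at h1
    linarith
  rw [← e, map_add, map_smul, o.idem, hz, hb, zero_smul, add_zero]

end Orbit

end CfsgLib.ThreeTransp.Sakuma
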