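import Cfsg.Agent.Lib.ThreeTransp.Sakuma.Fusion

/-!
The inner products of the axes, expressed by those at distance one and two.
-/

set_option autoImplicit false
set_option linter.unusedSimpArgs false

namespace CfsgLib.ThreeTransp.Sakuma

open Cfsg.Axial CfsgLib.ThreeTransp.Majorana

variable {V : Type*} [AddCommGroup V] [Module ℝ V]
variable {mul : V →ₗ[ℝ] V →ₗ[ℝ] V} {B : LinearMap.BilinForm ℝ V}

namespace Orbit

variable (o : Orbit mul B)

/-- inner product at distance one -/
abbrev lam : ℝ := B (o.a 0) (o.a 1)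

/-- inner product at distance two -/
abbrev mu : ℝ := B (o.a 0) (o.a 2)

theorem inner_left (i d : ℤ) :
    B (o.s i d) (o.a i) = (31 * B (o.a i) (o.a (i + d)) - 1) / 32 := by
  simp only [s, map_sub, map_smul, map_add, LinearMap.sub_apply, LinearMap.smul_apply,
    LinearMap.add_apply, smul_eq_mul, o.unit, o.symm (o.a (i + d)) (o.a i)]
  rw [o.symm (mul _ _), o.assoc, o.idem]
  ring

theorem inner_right (i d : ℤ) :
    B (o.s i d) (o.a (i + d)) = (31 * B (o.a i) (o.a (i + d)) - 1) / 32 := by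
  simp only [s, map_sub, map_smul, map_add, LinearMap.sub_apply, LinearMap.smul_apply,
    LinearMap.add_apply, smul_eq_mul, o.unit]
  rw [← o.assoc, o.idem]
  ring

theorem inner_s_one (j : ℤ) : B (o.s 0 1) (o.a j) = (31 * o.lam - 1) / 32 := by
  rw [← o.s_one j, o.inner_left, o.inner_succ]

theorem inner_mid (i : ℤ) :
    B (o.s i 2) (o.a (i + 1)) = (30 * o.lam + B (o.a i) (o.a (i + 2)) - 1) / 32 := by
  have h : B (mul (o.a i) (o.a (i + 2))) (o.a (i + 1)) =
      (31 * o.lam - 1) / 32 + (B (o.a i) (o.a (i + 2)) + o.lam) / 32 := by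
    rw [← o.assoc, o.prod_one (i + 2) (i + 1) (Or.inr (by ring))]
    simp only [map_add, map_smul, smul_eq_mul]
    rw [o.symm (o.a i) (o.s 0 1), o.inner_s_one, o.inner_succ i]
    ring
  simp only [s, map_sub, map_smul, map_add, LinearMap.sub_apply, LinearMap.smul_apply,
    LinearMap.add_apply, smul_eq_mul, h, o.inner_succ i]
  rw [show i + 2 = i + 1 + 1 by ring, o.symm (o.a (i + 1 + 1)), o.inner_succ]
  ring

theorem inner_two_zero : B (o.a 1) (o.a (-1)) = o.mu := by
  have h1 : B (mul (o.a 0) (o.s 1 2)) (o.a 0) = B (o.s 1 2) (o.a 0) := by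
    rw [o.symm (mul _ _), o.assoc, o.idem, o.symm]
  have hs : o.s (-1) 2 = o.s 1 2 := o.s_sub 1 2
  have h2 : B (o.s 1 2) (o.a 0) = (30 * o.lam + B (o.a 1) (o.a (-1)) - 1) / 32 := by
    have := o.inner_mid (-1)
    rw [hs] at this
    norm_num at this
    rw [this, o.symm (o.a 1)]
  have hE : B (o.s 0 2) (o.a 0) = (31 * o.mu - 1) / 32 := by simpa using o.inner_left 0 2
  have e2 : B (o.a (-2)) (o.a 0) = o.mu := by
    rw [mu, ← o.inner_refl 0 (-2) 0]; norm_num; rw [o.symm]
  have e1 : B (o.a 1) (o.a 0) = o.lam := o.symm _ _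
  have e3 : B (o.a (-1)) (o.a 0) = o.lam := by
    have := o.inner_succ (-1); norm_num at this; exact this
  rw [o.prod_s_two] at h1
  simp only [map_add, map_smul, LinearMap.add_apply, LinearMap.smul_apply, smul_eq_mul, o.unit,
    o.inner_s_one, h2, hE, e1, e2, e3, o.symm (o.a 2) (o.a 0)] at h1
  simp only [lam, mu] at h1 ⊢
  linear_combination -(96 / 7 : ℝ) * h1

theorem inner_two (i : ℤ) : B (o.a i) (o.a (i + 2)) = o.mu := by
  have step : ∀ i, B (o.a i) (o.a (i + 2)) = B (o.a (i - 1)) (o.a (i + 1)) := fun i => by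
    have := (o.shift i).inner_two_zero
    simp only [mu, shift_a, add_zero] at this
    rw [← this, o.symm, sub_eq_add_neg]
  induction i using Int.induction_on with
  | zero => simp
  | succ k ih =>
    rw [← ih, step, add_sub_cancel_right]
    ring_nf
  | pred k ih =>
    rw [← ih, step (-k : ℤ)]
    ring_nf

theorem s_two_even (i : ℤ) : o.s (2 * i) 2 = o.s 0 2 := by
  induction i using Int.induction_on with
  | zero => simp
  | succ k ih =>
    rw [← ih, ← o.s_sub (2 * ((k : ℤ) + 1)) 2]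
    ring_nf
  | pred k ih =>
    rw [← ih, ← o.s_sub (2 * -(k : ℤ)) 2]
    ring_nf

theorem s_two_odd (i : ℤ) : o.s (2 * i + 1) 2 = o.s 1 2 := by
  have := (o.shift 1).s_two_even i
  rw [shift_s, shift_s, add_comm, add_zero] at this
  exact this

theorem inner_even_even (i : ℤ) : B (o.s 0 2) (o.a (2 * i)) = (31 * o.mu - 1) / 32 := by
  rw [← o.s_two_even i, o.inner_left, o.inner_two]

theorem inner_even_odd (i : ℤ) : B (o.s 0 2) (o.a (2 * i + 1)) = (30 * o.lam + o.mu - 1) / 32 := by
  rw [← o.s_two_even i, o.inner_mid, o.inner_two]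

theorem inner_odd_odd (i : ℤ) : B (o.s 1 2) (o.a (2 * i + 1)) = (31 * o.mu - 1) / 32 := by
  rw [← o.s_two_odd i, o.inner_left, o.inner_two]

theorem inner_odd_even (i : ℤ) : B (o.s 1 2) (o.a (2 * i)) = (30 * o.lam + o.mu - 1) / 32 := by
  rw [← o.s_two_odd (i - 1), show 2 * i = 2 * (i - 1) + 1 + 1 by ring, o.inner_mid, o.inner_two]

theorem shift_lam (c : ℤ) : (o.shift c).lam = o.lam := by
  simp only [lam, shift_a, add_zero, o.inner_succ]

theorem shift_mu (c : ℤ) : (o.shift c).mu = o.mu := by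
  simp only [shift_a, mu, add_zero]
  exact o.inner_two c

/-- the inner product at distance three -/
noncomputable def th (l m : ℝ) : ℝ :=
  (-98304 * l ^ 3 - 5760 * l * m + 110592 * l ^ 2 - 6507 * l - 99 * m + 99) / 21

theorem inner_three_zero : B (o.a 0) (o.a 3) = th o.lam o.mu := by
  have h1 : B (mul (o.a 0) (o.s 1 2)) (o.a 1) = B (mul (o.a 1) (o.s 1 2)) (o.a 0) := by
    rw [o.symm (mul (o.a 0) _), o.assoc, o.symm, o.comm (o.a 1) (o.a 0), o.comm (o.a 1) (o.s 1 2),
      ← o.assoc, o.comm (o.a 1) (o.a 0), o.symm]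
  rw [o.prod_s_two, o.prod_s 1 2 3 (-1) (by norm_num) (by norm_num), o.inner_two_zero] at h1
  have e1 : B (o.a (-1)) (o.a 1) = o.mu := by rw [o.symm]; exact o.inner_two_zero
  have e2 : B (o.a (-2)) (o.a 1) = B (o.a 0) (o.a 3) := by
    rw [← o.inner_refl 0 (-2) 1, ← o.inner_refl 1 (2 * 0 - -2) (2 * 0 - 1)]; norm_num
  have e3 : B (o.a 1) (o.a 3) = o.mu := by simpa using o.inner_two 1
  have e4 : B (o.a (-1)) (o.a 0) = o.lam := by simpa using o.inner_succ (-1)
  have e5 : B (o.a 2) (o.a 1) = o.lam := by rw [o.symm]; simpa using o.inner_succ 1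
  have f1 : B (o.s 0 2) (o.a 1) = (30 * o.lam + o.mu - 1) / 32 := by simpa using o.inner_even_odd 0
  have f2 : B (o.s 1 2) (o.a 0) = (30 * o.lam + o.mu - 1) / 32 := by simpa using o.inner_odd_even 0
  simp only [map_add, map_sub, map_smul, LinearMap.add_apply, LinearMap.sub_apply, LinearMap.smul_apply,
    smul_eq_mul, o.unit, o.inner_s_one, e1, e2, e3, e4, e5, f1, f2, o.symm (o.a 3) (o.a 0),
    o.symm (o.a 1) (o.a 0)] at h1
  simp only [lam, mu, th] at h1 ⊢
  linear_combination -(3072 / 7 : ℝ) * h1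

theorem inner_three (i : ℤ) : B (o.a i) (o.a (i + 3)) = th o.lam o.mu := by
  have := (o.shift i).inner_three_zero
  rw [shift_lam, shift_mu] at this
  simpa [shift_a] using this

/-- the linear relation between seven consecutive axes -/
theorem rec_zero :
    (o.a (-2) - o.a 4) + (256 * o.lam - 5) • (o.a (-1) - o.a 3) +
      ((32768 * o.lam ^ 2 - 512 * o.lam + 128 * o.mu - 9) / 7) • (o.a 0 - o.a 2) = 0 := by
  have h0 := o.s_sq
  have h2 := (o.shift 2).s_sq
  rw [o.inner_two_zero] at h0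
  simp only [shift_a, shift_s] at h2
  norm_num only [] at h2
  have hl : B (o.a 2) (o.a 3) = o.lam := by simpa using o.inner_succ 2
  have hm : B (o.a 3) (o.a 1) = o.mu := by rw [o.symm]; simpa using o.inner_two 1
  have k1 : o.s 2 1 = o.s 0 1 := o.s_one 2
  have k2 : o.s 2 2 = o.s 0 2 := by simpa using o.s_two_even 1
  have k3 : o.s 3 2 = o.s 1 2 := by simpa using o.s_two_odd 1
  rw [hl, hm, k1, k2, k3] at h2
  simp only [lam, mu] at h0 h2 ⊢
  linear_combination (norm := module) (196608 / 49 : ℝ) • h2 - (196608 / 49 : ℝ) • h0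

theorem rec_at (c : ℤ) :
    (o.a (c + -2) - o.a (c + 4)) + (256 * o.lam - 5) • (o.a (c + -1) - o.a (c + 3)) +
      ((32768 * o.lam ^ 2 - 512 * o.lam + 128 * o.mu - 9) / 7) • (o.a c - o.a (c + 2)) = 0 := by
  have := (o.shift c).rec_zero
  rw [shift_lam, shift_mu] at this
  simpa [shift_a] using this

/-- coefficient of the recursion -/
noncomputable def c1 (l : ℝ) : ℝ := 256 * l - 5

/-- coefficient of the recursion -/
noncomputable def c0 (l m : ℝ) : ℝ := (32768 * l ^ 2 - 512 * l + 128 * m - 9) / 7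

theorem inner_four_zero : B (o.a 0) (o.a 4) =
    o.mu + c1 o.lam * (o.lam - th o.lam o.mu) + c0 o.lam o.mu * (1 - o.mu) := by
  have h := congrArg (B (o.a 0)) o.rec_zero
  have e1 : B (o.a 0) (o.a (-2)) = o.mu := by
    have := o.inner_two (-2); norm_num at this; rwa [o.symm]
  have e2 : B (o.a 0) (o.a (-1)) = o.lam := by
    have := o.inner_succ (-1); norm_num at this; rwa [o.symm]
  simp only [map_add, map_sub, map_smul, smul_eq_mul, map_zero, e1, e2, o.inner_three_zero, o.unit] at h
  simp only [lam, mu, c0, c1] at h ⊢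
  linear_combination -h

theorem inner_four (i : ℤ) : B (o.a i) (o.a (i + 4)) =
    o.mu + c1 o.lam * (o.lam - th o.lam o.mu) + c0 o.lam o.mu * (1 - o.mu) := by
  have := (o.shift i).inner_four_zero
  rw [shift_lam, shift_mu] at this
  simpa [shift_a] using this

theorem inner_five_zero : B (o.a 0) (o.a 5) =
    o.lam + c1 o.lam * (1 - B (o.a 0) (o.a 4)) + c0 o.lam o.mu * (o.lam - th o.lam o.mu) := by
  have h := congrArg (B (o.a 0)) (o.rec_at 1)
  norm_num only [] at h
  have e1 : B (o.a 0) (o.a (-1)) = o.lam := by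
    have := o.inner_succ (-1); norm_num at this; rwa [o.symm]
  simp only [map_add, map_sub, map_smul, smul_eq_mul, map_zero, e1, o.inner_three_zero, o.unit] at h
  simp only [lam, mu, c0, c1] at h ⊢
  linear_combination -h

theorem inner_five (i : ℤ) : B (o.a i) (o.a (i + 5)) =
    o.lam + c1 o.lam * (1 - B (o.a 0) (o.a 4)) + c0 o.lam o.mu * (o.lam - th o.lam o.mu) := by
  have := (o.shift i).inner_five_zero
  simp only [shift_lam, shift_mu] at this
  simp only [shift_a, add_zero, o.inner_four] at this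
  rw [this, o.inner_four_zero]

theorem inner_six_zero : B (o.a 0) (o.a 6) =
    1 + c1 o.lam * (o.lam - B (o.a 0) (o.a 5)) + c0 o.lam o.mu * (o.mu - B (o.a 0) (o.a 4)) := by
  have h := congrArg (B (o.a 0)) (o.rec_at 2)
  norm_num only [] at h
  simp only [map_add, map_sub, map_smul, smul_eq_mul, map_zero, o.unit] at h
  simp only [lam, mu, c0, c1] at h ⊢
  linear_combination -h

end Orbit

end CfsgLib.ThreeTransp.Sakuma
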