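import Cfsg.Agent.Lib.ThreeTransp.Sakuma.Scalars

/-!
The product of two axes at distance three, and the two equations for the inner products.
-/

set_option autoImplicit false
set_option linter.unusedSimpArgs false

namespace CfsgLib.ThreeTransp.Sakuma

open Cfsg.Axial CfsgLib.ThreeTransp.Majorana

variable {V : Type*} [AddCommGroup V] [Module ℝ V]
variable {mul : V →ₗ[ℝ] V →ₗ[ℝ] V} {B : LinearMap.BilinForm ℝ V}

namespace Orbit

variable (o : Orbit mul B)

theorem prod_s_two_at (c p q r r' : ℤ) (hp : p = c + 1) (hq : q = c - 1) (hr : r = c + 2)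
    (hr' : r' = c - 2) :
    mul (o.a c) (o.s p 2) =
      (32 / 3 * o.lam - 19 / 48) • o.s 0 1 +
      (-(32 / 3) * (o.lam * o.lam) + 5 / 3 * o.lam - 1 / 24 * o.mu - 127 / 3072) • o.a c +
      (1 / 6 * o.lam - 19 / 3072) • (o.a p + o.a q) +
      (7 / 96 : ℝ) • o.s c 2 + (7 / 6144 : ℝ) • (o.a r + o.a r') := by
  subst hp hq hr hr'
  have h := (o.shift c).prod_s_two
  rw [(o.shift c).inner_two_zero, shift_mu] at h
  simp only [shift_a, shift_s, add_zero, ← sub_eq_add_neg, o.inner_succ, o.s_one] at h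
  exact h

theorem prod_three :
    o.s 0 3 =
      ((63488 / 21) * (o.lam * o.lam) - 3848 / 21 * o.lam - 256 / 21 * o.mu + 1913 / 672) • o.a 0 +
      (-(32768 / 7) * (o.lam * o.lam) + 19456 / 21 * o.lam - 128 / 7 * o.mu - 491 / 21) • o.s 0 1 +
      (512 * (o.lam * o.lam) - 176 / 3 * o.lam + 2 * o.mu + 187 / 192) • (o.a 1 + o.a (-1)) +
      (-256 * o.lam + 31 / 3) • o.s 0 2 +
      (28 * o.lam - 161 / 192) • (o.a 2 + o.a (-2)) +
      (7 / 64 : ℝ) • (o.a 3 + o.a (-3)) + (-8 : ℝ) • o.s 1 2 := by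
  obtain ⟨hz1, hq1, -, -, -⟩ := o.basic 1
  obtain ⟨hz2, hq2, -, -, -⟩ := o.basic 2
  have h : mul (o.a 0) (mul (o.zv 1) (o.qv 2) - mul (o.qv 1) (o.zv 2)) =
      (1 / 4 : ℝ) • (mul (o.zv 1) (o.qv 2) - mul (o.qv 1) (o.zv 2)) := by
    rw [map_sub, o.fus_zero_quarter hz1 hq2, o.comm (o.qv 1) (o.zv 2), o.fus_zero_quarter hz2 hq1,
      smul_sub]
  have hs : o.s (-1) 2 = o.s 1 2 := o.s_sub 1 2
  have hs' : o.s (-2) 2 = o.s 0 2 := o.s_sub 0 2
  have hs3 : o.s (-3) 3 = o.s 0 3 := o.s_sub 0 3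
  have p1 : mul (o.a 1) (o.s 0 2) =
      (32 / 3 * o.lam - 19 / 48) • o.s 0 1 +
      (-(32 / 3) * (o.lam * o.lam) + 5 / 3 * o.lam - 1 / 24 * o.mu - 127 / 3072) • o.a 1 +
      (1 / 6 * o.lam - 19 / 3072) • (o.a 2 + o.a 0) +
      (7 / 96 : ℝ) • o.s 1 2 + (7 / 6144 : ℝ) • (o.a 3 + o.a (-1)) := by
    have h' : o.s 2 2 = o.s 0 2 := by simpa using o.s_two_even 1
    rw [← h']
    exact o.prod_s_two_at 1 2 0 3 (-1) (by norm_num) (by norm_num) (by norm_num) (by norm_num)
  have p2 : mul (o.a (-1)) (o.s 0 2) =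
      (32 / 3 * o.lam - 19 / 48) • o.s 0 1 +
      (-(32 / 3) * (o.lam * o.lam) + 5 / 3 * o.lam - 1 / 24 * o.mu - 127 / 3072) • o.a (-1) +
      (1 / 6 * o.lam - 19 / 3072) • (o.a 0 + o.a (-2)) +
      (7 / 96 : ℝ) • o.s 1 2 + (7 / 6144 : ℝ) • (o.a 1 + o.a (-3)) := by
    rw [← hs]
    exact o.prod_s_two_at (-1) 0 (-2) 1 (-3) (by norm_num) (by norm_num) (by norm_num) (by norm_num)
  have hO := o.prod_s_two
  rw [o.inner_two_zero] at hO
  simp only [zv, qv, map_add, map_sub, map_smul, LinearMap.add_apply, LinearMap.sub_apply,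
    LinearMap.smul_apply, o.idem, o.prod_one 0 1 (by norm_num), o.prod_one 1 0 (by norm_num),
    o.prod_one 0 (-1) (by norm_num), o.prod_one (-1) 0 (by norm_num),
    o.prod_eq 0 2 2 (by norm_num), o.prod_eq' (-2) 0 2 (by norm_num),
    o.prod_eq (-2) 0 2 (by norm_num),
    o.prod_eq 0 3 3 (by norm_num), o.prod_eq' (-3) 0 3 (by norm_num),
    o.comm (o.s 0 1) (o.a 0), o.comm (o.s 0 1) (o.a 2), o.comm (o.s 0 1) (o.a (-2)),
    o.comm (o.s 0 2) (o.a 0), o.prod_s_zero_two, p1, p2, hO,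
    o.prod_s_one 0 1 (-1) (by norm_num) (by norm_num), o.prod_s_one 2 3 1 (by norm_num) (by norm_num),
    o.prod_s_one (-2) (-1) (-3) (by norm_num) (by norm_num), hs, hs', hs3] at h
  simp only [lam, mu] at h ⊢
  linear_combination (norm := module) -(768 / 7 : ℝ) • h

/-- the inner product at distance four -/
noncomputable def fo (l m : ℝ) : ℝ := m + c1 l * (l - th l m) + c0 l m * (1 - m)

/-- the inner product at distance five -/
noncomputable def fi (l m : ℝ) : ℝ := l + c1 l * (1 - fo l m) + c0 l m * (l - th l m)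

/-- the inner product at distance six -/
noncomputable def si (l m : ℝ) : ℝ := 1 + c1 l * (l - fi l m) + c0 l m * (m - fo l m)

theorem inner_four' (i : ℤ) : B (o.a i) (o.a (i + 4)) = fo o.lam o.mu := o.inner_four i

theorem inner_five' (i : ℤ) : B (o.a i) (o.a (i + 5)) = fi o.lam o.mu := by
  rw [o.inner_five, o.inner_four_zero]; rfl

theorem inner_six : B (o.a 0) (o.a 6) = si o.lam o.mu := by
  have e4 := o.inner_four' 0
  have e5 := o.inner_five' 0
  rw [zero_add] at e4 e5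
  rw [o.inner_six_zero, e4, e5]; rfl

theorem eq_one :
    6291456 * o.lam ^ 4 + 122880 * o.lam ^ 2 * o.mu - 6979584 * o.lam ^ 3 + 26688 * o.lam * o.mu +
      552960 * o.lam ^ 2 + 384 * o.mu ^ 2 - 14400 * o.lam - 501 * o.mu + 117 = 0 := by
  have h := congrArg (fun x => B x (o.a 2)) o.prod_three
  have hl : B (o.s 0 3) (o.a 2) =
      (30 * o.lam + o.mu - 1) / 32 + (th o.lam o.mu - o.mu) / 32 := by
    have e := o.inner_even_odd 1
    norm_num only [] at e
    simp only [s, zero_add, map_sub, map_smul, map_add, LinearMap.sub_apply, LinearMap.smul_apply,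
      LinearMap.add_apply, smul_eq_mul]
    rw [o.comm (o.a 0) (o.a 3), ← o.assoc, o.prod_eq 0 2 2 (by norm_num)]
    simp only [map_add, map_smul, smul_eq_mul]
    rw [o.symm (o.a 3) (o.s 0 2), e, o.symm (o.a 3) (o.a 0), o.inner_three_zero,
      o.symm (o.a 3) (o.a 2)]
    have e' : B (o.a 2) (o.a 3) = o.lam := by simpa using o.inner_succ 2
    rw [e']
    simp only [lam, mu]
    ring
  have a0 : B (o.a 0) (o.a 2) = o.mu := rfl
  have a1 : B (o.a 1) (o.a 2) = o.lam := by simpa using o.inner_succ 1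
  have a1' : B (o.a (-1)) (o.a 2) = th o.lam o.mu := by simpa using o.inner_three (-1)
  have a2' : B (o.a (-2)) (o.a 2) = fo o.lam o.mu := by simpa using o.inner_four' (-2)
  have a3 : B (o.a 3) (o.a 2) = o.lam := by rw [o.symm]; simpa using o.inner_succ 2
  have a3' : B (o.a (-3)) (o.a 2) = fi o.lam o.mu := by simpa using o.inner_five' (-3)
  have f1 : B (o.s 0 2) (o.a 2) = (31 * o.mu - 1) / 32 := by simpa using o.inner_even_even 1
  have f2 : B (o.s 1 2) (o.a 2) = (30 * o.lam + o.mu - 1) / 32 := by simpa using o.inner_odd_even 1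
  simp only [map_add, map_smul, LinearMap.add_apply, LinearMap.smul_apply, smul_eq_mul, o.unit,
    o.inner_s_one, hl, a0, a1, a1', a2', a3, a3', f1, f2] at h
  simp only [lam, mu, th, fo, fi, c0, c1] at h ⊢
  linear_combination (56 : ℝ) * h

theorem eq_two :
    1610612736 * o.lam ^ 5 + 78643200 * o.lam ^ 3 * o.mu - 1815085056 * o.lam ^ 4 +
      282624 * o.lam * o.mu ^ 2 - 4780032 * o.lam ^ 2 * o.mu + 132415488 * o.lam ^ 3 +
      497568 * o.lam * o.mu - 2580480 * o.lam ^ 2 + 8352 * o.mu ^ 2 - 6048 * o.lam -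
      8703 * o.mu + 351 = 0 := by
  have h := congrArg (fun x => B x (o.a 3)) o.prod_three
  have hl : B (o.s 0 3) (o.a 3) = (31 * th o.lam o.mu - 1) / 32 := by
    rw [← o.inner_three_zero]; simpa using o.inner_right 0 3
  have a1 : B (o.a 1) (o.a 3) = o.mu := by simpa using o.inner_two 1
  have a1' : B (o.a (-1)) (o.a 3) = fo o.lam o.mu := by simpa using o.inner_four' (-1)
  have a2 : B (o.a 2) (o.a 3) = o.lam := by simpa using o.inner_succ 2
  have a2' : B (o.a (-2)) (o.a 3) = fi o.lam o.mu := by simpa using o.inner_five' (-2)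
  have a3' : B (o.a (-3)) (o.a 3) = si o.lam o.mu := by
    have := (o.shift (-3)).inner_six
    rw [shift_lam, shift_mu] at this
    simpa [shift_a] using this
  have f1 : B (o.s 0 2) (o.a 3) = (30 * o.lam + o.mu - 1) / 32 := by simpa using o.inner_even_odd 1
  have f2 : B (o.s 1 2) (o.a 3) = (31 * o.mu - 1) / 32 := by simpa using o.inner_odd_odd 1
  simp only [map_add, map_smul, LinearMap.add_apply, LinearMap.smul_apply, smul_eq_mul, o.unit,
    o.inner_s_one, hl, o.inner_three_zero, a1, a1', a2, a2', a3', f1, f2] at h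
  simp only [lam, mu, th, fo, fi, si, c0, c1] at h ⊢
  linear_combination -(196 : ℝ) * h

end Orbit

end CfsgLib.ThreeTransp.Sakuma
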